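import Cfsg.Agent.Lib.RigidGraph.Suz.Group
import Cfsg.Agent.Lib.RigidGraph.Suz.RelabelData
import Cfsg.Agent.Lib.RigidGraph.Suz.Coset.Acd
import Cfsg.Agent.Lib.RigidGraph.Suz.Coset.Abcd
import Cfsg.Agent.Lib.RigidGraph.Suz.Coset.Abcde
import Cfsg.Agent.Lib.RigidGraph.Suz.Coset.Abcdef
import Cfsg.Agent.Lib.Compute.CosetBound
import Cfsg.Agent.Lib.Compute.CosetData.SuzASetup

/-!
The presented group: its order is at most that of the group on 1782 points (a chain of four small coset
tables below the table on 1782 points), so the table gives an isomorphism.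
-/

set_option autoImplicit false
set_option maxRecDepth 100000

namespace Cfsg.Agent.RigidGraph.Suz

open Cfsg.Agent.CosetCert
open scoped Pointwise

/-- The presented group. -/
abbrev PG : Type := Cfsg.Agent.CosetData.SuzA.setup.G

/-- The generators by number. -/
noncomputable def pgen (x : ℕ) : PG := Cfsg.Agent.CosetData.SuzA.setup.gen x

theorem pgen_invol (x : ℕ) : pgen x * pgen x = 1 := Cfsg.Agent.CosetData.SuzA.setup.gen_invol x

theorem base_one : ∀ w ∈ Cfsg.Agent.CosetData.SuzA.base, wprod pgen w = 1 :=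
  Cfsg.Agent.CosetData.SuzA.setup.base_one

/-- The subgroup generated by some of the generators. -/
noncomputable def par (S : List ℕ) : Subgroup PG := Subgroup.closure (pgen '' {x | x ∈ S})

theorem pgen_mem {S : List ℕ} {x : ℕ} (h : x ∈ S) : pgen x ∈ par S := Subgroup.subset_closure ⟨x, h, rfl⟩

theorem wprod_mem {S : List ℕ} {w : List ℕ} (h : ∀ x ∈ w, x ∈ S) : wprod pgen w ∈ par S := by
  refine Subgroup.list_prod_mem _ fun g hg => ?_
  obtain ⟨x, hx, rfl⟩ := List.mem_map.1 hg
  exact pgen_mem (h x hx)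

/-- A generator inside such a subgroup, by position. -/
noncomputable def lgen (S : List ℕ) (i : ℕ) : ↥(par S) :=
  if h : i < S.length then ⟨pgen (S.getD i 0), pgen_mem (by
    rw [List.getD_eq_getElem _ _ h]; exact List.getElem_mem _)⟩ else 1

theorem lgen_invol (S : List ℕ) (i : ℕ) : lgen S i * lgen S i = 1 := by
  by_cases h : i < S.length
  · rw [lgen, dif_pos h]; exact Subtype.ext (pgen_invol _)
  · rw [lgen, dif_neg h, mul_one]

theorem lgen_closure (S : List ℕ) {k : ℕ} (hk : k = S.length) :
    Subgroup.closure (lgen S '' {x | x < k}) = ⊤ := by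
  subst hk
  refine eq_top_iff.2 ((Subgroup.closure_closure_coe_preimage (k := pgen '' {x | x ∈ S})).symm.trans_le
    (Subgroup.closure_mono ?_))
  rintro ⟨g, hg⟩ ⟨x, hx, rfl⟩
  obtain ⟨i, hi, rfl⟩ := List.getElem_of_mem (show x ∈ S from hx)
  refine ⟨i, hi, Subtype.ext ?_⟩
  rw [lgen, dif_pos hi]
  show pgen (S.getD i 0) = pgen S[i]
  rw [List.getD_eq_getElem _ _ hi]

theorem coe_wprod_lgen (S : List ℕ) : ∀ w : List ℕ, (∀ x ∈ w, x < S.length) →
    ((wprod (lgen S) w : ↥(par S)) : PG) = wprod pgen (w.map fun x => S.getD x 0) := by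
  intro w
  induction w with
  | nil => intro _; rfl
  | cons x w ih =>
    intro h
    rw [List.map_cons, wprod_cons, wprod_cons, Subgroup.coe_mul, ih fun y hy => h y (List.mem_cons_of_mem _ hy),
      lgen, dif_pos (h x List.mem_cons_self)]

/-- The relators of a small table hold in the presented group. -/
def localOK (S : List ℕ) (base : List (List ℕ)) (known : List (List ℕ)) : Bool :=
  base.all fun w => w.all (fun x => Nat.blt x S.length) &&
    known.any fun u => wordEq (w.map fun x => S.getD x 0) u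

theorem local_one {S : List ℕ} {base known : List (List ℕ)} (hk : ∀ u ∈ known, wprod pgen u = 1)
    (h : localOK S base known = true) : ∀ w ∈ base, wprod (lgen S) w = 1 := by
  intro w hw
  simp only [localOK, List.all_eq_true, Bool.and_eq_true, Nat.blt_eq, List.any_eq_true] at h
  obtain ⟨h1, u, hu, he⟩ := h w hw
  refine Subtype.ext ?_
  rw [coe_wprod_lgen S w h1, eq_of_wordEq he, hk u hu]
  rfl

/-- A bound on the subgroup generated by the generators in `S` from one on those in `S'`. -/
theorem card_step {P : Params} {S S' : List ℕ} {base : List (List ℕ)} {hints : List (ℕ × ℕ × Bool)}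
    {n m : ℕ} {tree : List ℕ} {phases : List Phase} (hk : P.k = S.length)
    (hS : ∀ x ∈ S', x ∈ S)
    (hb : localOK S base Cfsg.Agent.CosetData.SuzA.base = true)
    (hrots : rotsOK base P.rots.entries hints = true)
    (hsubs : (P.subs.all fun u => u.all fun x => Nat.blt x S.length && S'.any fun y => Nat.beq (S.getD x 0) y) = true)
    (hcert : checkCert P n tree phases = true) (htab : tableOK P n = true) (hn : 0 < n)
    (hcard : Finite ↥(par S') ∧ Nat.card ↥(par S') ≤ m) :
    Finite ↥(par S) ∧ Nat.card ↥(par S) ≤ m * n := by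
  have hle : par S' ≤ par S := Subgroup.closure_mono (Set.image_mono fun x hx => hS x hx)
  set H := (par S').subgroupOf (par S)
  have hsub : ∀ u ∈ P.subs, wprod (lgen S) u ∈ H := by
    intro u hu
    have h := List.all_eq_true.1 hsubs u hu
    simp only [List.all_eq_true, Bool.and_eq_true, Nat.blt_eq, List.any_eq_true, Nat.beq_eq] at h
    rw [Subgroup.mem_subgroupOf, coe_wprod_lgen S u fun x hx => (h x hx).1]
    refine wprod_mem fun y hy => ?_
    obtain ⟨x, hx, rfl⟩ := List.mem_map.1 hy
    obtain ⟨-, z, hz, e⟩ := h x hx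
    exact e ▸ hz
  obtain ⟨hf, hi, -⟩ := index_bound (P := P) (H := H) (lgen_invol S) (lgen_closure S hk)
    (local_one base_one hb) hrots hsub hcert htab hn
  obtain ⟨hfd, hd⟩ := hcard
  haveI : Finite ↥H := Finite.of_equiv _ (Subgroup.subgroupOfEquivOfLe hle).toEquiv.symm
  refine ⟨Finite.of_equiv _ (Subgroup.groupEquivQuotientProdSubgroup (s := H)).symm, ?_⟩
  rw [← Subgroup.card_mul_index H, Nat.card_congr (Subgroup.subgroupOfEquivOfLe hle).toEquiv]
  exact Nat.mul_le_mul hd hi

theorem card_par_nil : Finite ↥(par []) ∧ Nat.card ↥(par []) ≤ 1 := by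
  have h : par [] = ⊥ := by simp [par]
  rw [h]
  exact ⟨inferInstance, by simp⟩

theorem card_acd : Finite ↥(par [0, 2, 3]) ∧ Nat.card ↥(par [0, 2, 3]) ≤ 1 * 16 :=
  card_step (P := Coset.Acd.P) rfl (by simp) (by decide +kernel) Coset.Acd.rots_ok (by decide +kernel)
    Coset.Acd.cert_ok Coset.Acd.tab_ok (by norm_num) card_par_nil

theorem card_abcd : Finite ↥(par [0, 1, 2, 3]) ∧ Nat.card ↥(par [0, 1, 2, 3]) ≤ 1 * 16 * 135 :=
  card_step (P := Coset.Abcd.P) rfl (by simp) (by decide +kernel) Coset.Abcd.rots_ok (by decide +kernel)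
    Coset.Abcd.cert_ok Coset.Abcd.tab_ok (by norm_num) card_acd

theorem card_abcde : Finite ↥(par [0, 1, 2, 3, 4]) ∧ Nat.card ↥(par [0, 1, 2, 3, 4]) ≤ 1 * 16 * 135 * 280 :=
  card_step (P := Coset.Abcde.P) rfl (by simp) (by decide +kernel) Coset.Abcde.rots_ok (by decide +kernel)
    Coset.Abcde.cert_ok Coset.Abcde.tab_ok (by norm_num) card_abcd

theorem card_abcdef : Finite ↥(par [0, 1, 2, 3, 4, 5]) ∧
    Nat.card ↥(par [0, 1, 2, 3, 4, 5]) ≤ 1 * 16 * 135 * 280 * 416 :=
  card_step (P := Coset.Abcdef.P) rfl (by simp) (by decide +kernel) Coset.Abcdef.rots_ok (by decide +kernel)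
    Coset.Abcdef.cert_ok Coset.Abcdef.tab_ok (by norm_num) card_abcde

theorem card_PG : Finite PG ∧ Nat.card PG ≤ 448345497600 := by
  have hsub : ∀ u ∈ Cfsg.Agent.CosetData.SuzA.P.subs, wprod pgen u ∈ par [0, 1, 2, 3, 4, 5] := by
    intro u hu
    have hchk : (Cfsg.Agent.CosetData.SuzA.P.subs.all fun v => v.all fun x => Nat.blt x 6) = true := by
      decide +kernel
    have h := List.all_eq_true.1 hchk u hu
    simp only [List.all_eq_true, Nat.blt_eq] at h
    refine wprod_mem fun x hx => ?_
    have := h x hx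
    simp only [List.mem_cons, List.not_mem_nil, or_false]
    omega
  obtain ⟨hf, hi, -⟩ := index_bound (P := Cfsg.Agent.CosetData.SuzA.P) (H := par [0, 1, 2, 3, 4, 5]) pgen_invol
    (show Subgroup.closure (pgen '' {x | x < Cfsg.Agent.CosetData.SuzA.P.k}) = ⊤ from
      Cfsg.Agent.CosetData.SuzA.setup.closure_gen)
    base_one Cfsg.Agent.CosetData.SuzA.rots_ok hsub Cfsg.Agent.CosetData.SuzA.cert_ok
    Cfsg.Agent.CosetData.SuzA.tab_ok (n := 1782) (by norm_num)
  obtain ⟨hbf, hb⟩ := card_abcdef
  refine ⟨Finite.of_equiv _ (Subgroup.groupEquivQuotientProdSubgroup (s := par [0, 1, 2, 3, 4, 5])).symm, ?_⟩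
  rw [← Subgroup.card_mul_index (par [0, 1, 2, 3, 4, 5])]
  exact (Nat.mul_le_mul hb hi).trans (by norm_num)

/-- The two words give the generators after relabelling. -/
noncomputable def relabelOK : Bool :=
  permOK 1782 relabel && (word0 ++ word1).all (fun x => Nat.blt x 7) &&
    allB (fun i => Nat.beq (slot (nodes.getD 0 (0, 0)).1 i)
      (slot relabel.2 (tact Cfsg.Agent.CosetData.SuzA.P word0.reverse (slot relabel.1 i)))) 1782 &&
    allB (fun i => Nat.beq (slot (nodes.getD 1 (0, 0)).1 i)
      (slot relabel.2 (tact Cfsg.Agent.CosetData.SuzA.P word1.reverse (slot relabel.1 i)))) 1782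

theorem relabel_ok : relabelOK = true := by decide +kernel

/-- The action of the presented group given by the table. -/
noncomputable def tableHom : PG →* Equiv.Perm (Fin 1782) := Cfsg.Agent.CosetData.SuzA.setup.hom

theorem tableHom_gen {x : ℕ} (hx : x < 7) : tableHom (pgen x) = genPerm Cfsg.Agent.CosetData.SuzA.tab_ok x :=
  Cfsg.Agent.CosetData.SuzA.setup.hom_gen x hx

/-- The action of the presented group on the points of the rigid graph. -/
noncomputable def toPerm : PG →* Equiv.Perm (Fin 1782) :=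
  (MulAut.conj (permOf 1782 relabel)⁻¹).toMonoidHom.comp tableHom

theorem toPerm_val (hp : permOK 1782 relabel = true) (w : List ℕ) (hw : ∀ x ∈ w, x < 7) (i : Fin 1782) :
    (toPerm (wprod pgen w) i : ℕ) = slot relabel.2 (tact Cfsg.Agent.CosetData.SuzA.P w.reverse (slot relabel.1 i)) := by
  have hh : ∀ v : List ℕ, (∀ x ∈ v, x < 7) →
      tableHom (wprod pgen v) = wprod (genPerm Cfsg.Agent.CosetData.SuzA.tab_ok) v := by
    intro v
    induction v with
    | nil => intro _; rw [wprod_nil, wprod_nil]; exact map_one _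
    | cons x v ih =>
      intro hv
      rw [wprod_cons, wprod_cons, map_mul, tableHom_gen (hv x List.mem_cons_self),
        ih fun y hy => hv y (List.mem_cons_of_mem _ hy)]
  show ((((permOf 1782 relabel)⁻¹ * tableHom (wprod pgen w) * (permOf 1782 relabel)⁻¹⁻¹) i : Fin 1782) : ℕ) = _
  rw [inv_inv, Equiv.Perm.mul_apply, Equiv.Perm.mul_apply, ← permOf_invE hp, permOf_val (permOK_invE hp), hh w hw]
  have hv := wprod_genPerm Cfsg.Agent.CosetData.SuzA.tab_ok w.reverse
    (List.all_eq_true.2 fun x hx => Nat.blt_eq.mpr (hw x (List.mem_reverse.1 hx))) (permOf 1782 relabel i)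
  rw [List.reverse_reverse] at hv
  rw [hv, permOf_val hp]
  rfl

theorem range_eq : toPerm.range = suzGroup ∧ Function.Injective toPerm := by
  have hrel := relabel_ok
  simp only [relabelOK, Bool.and_eq_true] at hrel
  obtain ⟨⟨⟨hp, hw⟩, h0⟩, h1⟩ := hrel
  have hlt : ∀ x ∈ word0 ++ word1, x < 7 := fun x hx => Nat.blt_eq.mp (List.all_eq_true.1 hw x hx)
  have val := toPerm_val hp
  have hge : suzGroup ≤ toPerm.range := by
    rw [suzGroup, grp, Subgroup.closure_le, Set.insert_subset_iff, Set.singleton_subset_iff]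
    have hn := gen_lt slp_ok
    exact ⟨⟨wprod pgen word0, Equiv.ext fun i => Fin.ext (by
        rw [val _ (fun x hx => hlt x (List.mem_append_left _ hx)), permOf_val (node_ok slp_ok (by omega))]
        exact (Nat.eq_of_beq_eq_true (allB_spec h0 i.2)).symm)⟩,
      ⟨wprod pgen word1, Equiv.ext fun i => Fin.ext (by
        rw [val _ (fun x hx => hlt x (List.mem_append_right _ hx)), permOf_val (node_ok slp_ok (by omega))]
        exact (Nat.eq_of_beq_eq_true (allB_spec h1 i.2)).symm)⟩⟩
  obtain ⟨hf, hc⟩ := card_PG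
  have hr : Nat.card ↥toPerm.range ≤ Nat.card PG :=
    Nat.card_le_card_of_surjective _ toPerm.rangeRestrict_surjective
  have hge' := Subgroup.card_le_of_le hge
  rw [card_suzGroup] at hge'
  refine ⟨(Subgroup.eq_of_le_of_card_ge hge (by rw [card_suzGroup]; omega)).symm, ?_⟩
  have hbij : Function.Bijective toPerm.rangeRestrict :=
    (Nat.bijective_iff_surjective_and_card _).2 ⟨toPerm.rangeRestrict_surjective, by omega⟩
  intro a b e
  exact hbij.1 (Subtype.ext e)

/-- The presented group is the group on 1782 points. -/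
noncomputable def presentedEquiv : Cfsg.Spor.Suz ≃* ↥suzGroup :=
  (MonoidHom.ofInjective range_eq.2).trans (MulEquiv.subgroupCongr range_eq.1)

end Cfsg.Agent.RigidGraph.Suz
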