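import Cfsg.Agent.Lib.RigidGraph.Suz.Cert
import Cfsg.Agent.Lib.RigidGraph.Main

/-! Kernel checks for the certificate on 1782 points. -/

set_option autoImplicit false
set_option maxRecDepth 100000
set_option Elab.async false

namespace Cfsg.Agent.RigidGraph.Suz

theorem graph_ok : graphOK 1782 graph = true := by decide +kernel

theorem slp_ok : slpOK 1782 nodes prog = true := by decide +kernel

theorem gens_aut : gensAut 1782 graph nodes = true := by decide +kernel

theorem levels_ok : levelsOK 1782 graph nodes [] levels = true := by decide +kernel

theorem rounds_ok : roundsOK 1782 graph [0, 135, 142, 203, 44, 208, 11, 253] rounds = true := by decide +kernel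

theorem sep_ok : sepOK 1782 graph ([0, 135, 142, 203, 44, 208, 11, 253] ++ rounds.flatten) ord = true := by
  decide +kernel

theorem ord_ok : ordOK 1782 nodes (11 ^ 1) (11 ^ 1) = true := by decide +kernel

/-- generators of the stabiliser of the first point -/
theorem cover_ok : coverOK 1782 nodes 0 [150, 446] cover = true := by decide +kernel

theorem extra_ok : classCnt 1782 graph [0, 135, 142, 203, 44, 208, 11] [] 253 = 2 := by decide +kernel

theorem outer_ok : (permOK 1782 outer && autOK 1782 graph outer && powOK 1782 outer 2 &&
    [0, 135, 142, 203, 44, 208, 11].all (fun b => Nat.beq (slot outer.1 b) b) && Nat.beq (cntB (fun i => Nat.beq (slot outer.1 i) i) 1782) 100)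
      = true := by decide +kernel

end Cfsg.Agent.RigidGraph.Suz
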