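import Cfsg.Agent.Lib.RigidGraph.Suz.Checks
import Cfsg.Prelude.Def_Sporadic

/-! The group on 1782 points: order and simplicity. -/

set_option autoImplicit false

namespace Cfsg.Agent.RigidGraph.Suz

attribute [local irreducible] rowsB rowsN nodes prog levels rounds ord cover graph outer classCnt

/-- The group. -/
noncomputable def suzGroup : Subgroup (Equiv.Perm (Fin 1782)) := grp 1782 nodes

theorem levels_shape : levels.map (·.t) = [0, 135, 142, 203, 44, 208, 11] ∧
    levels.map (·.k) = [1782, 416, 100, 36, 21, 2, 4] := by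
  unfold levels; exact ⟨rfl, rfl⟩

theorem card_aut_fix_le : Nat.card ↥(autG 1782 graph ⊓ fixList 1782 [0, 135, 142, 203, 44, 208, 11]) ≤ 2 := by
  have ht : 253 < 1782 := by norm_num
  have hb : autG 1782 graph ⊓ fixList 1782 ([0, 135, 142, 203, 44, 208, 11] ++ [253]) = ⊥ :=
    fix_eq_bot graph_ok (by decide) rounds_ok sep_ok
  have hsplit := card_split (autG 1782 graph) [0, 135, 142, 203, 44, 208, 11] ⟨253, ht⟩
  rw [hb, Subgroup.card_bot, mul_one] at hsplit
  rw [hsplit]
  exact (orbit_le graph_ok (by decide) rfl ht (by decide)).trans (le_of_eq extra_ok)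

theorem sign_invol {n : ℕ} {e : Elt} (hp : permOK n e = true) (hinv : powOK n e 2 = true) {f k : ℕ}
    (hfix : cntB (fun i => Nat.beq (slot e.1 i) i) n = f) (hk : f + 2 * k = n) (hodd : Odd k) :
    Equiv.Perm.sign (permOf n e) = -1 := by
  haveI : Fact (Nat.Prime 2) := ⟨Nat.prime_two⟩
  simp only [cntB_eq_fin, Nat.beq_eq] at hfix
  have hc := Equiv.Perm.cycleType_of_pow_prime_eq_one (powOK_spec hp hinv)
  have hsum := Equiv.Perm.sum_cycleType (permOf n e)
  have e' : ((Finset.univ : Finset (Fin n)).filter fun i : Fin n => slot e.1 i = (i : ℕ)) =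
      (permOf n e).supportᶜ := by
    ext i
    simp only [Finset.mem_filter, Finset.mem_univ, true_and, Finset.mem_compl, Equiv.Perm.mem_support, not_not,
      Fin.ext_iff, permOf_val hp]
  rw [e', Finset.card_compl, Fintype.card_fin] at hfix
  have := Finset.card_le_univ (permOf n e).support
  rw [Fintype.card_fin] at this
  rw [hc, Multiset.sum_replicate, smul_eq_mul] at hsum
  rw [Equiv.Perm.sign_of_cycleType, hc, Multiset.sum_replicate, Multiset.card_replicate, smul_eq_mul,
    show Multiset.card (permOf n e).cycleType = k by omega]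
  exact Odd.neg_one_pow (by obtain ⟨j, rfl⟩ := hodd; exact ⟨3 * j + 1, by omega⟩)

theorem two_elements {G : Type*} [Group G] [Finite G] {K : Subgroup G} (hK : Nat.card K ≤ 2) {a b : G}
    (ha : a ∈ K) (hb : b ∈ K) (ha1 : a ≠ 1) (hb1 : b ≠ 1) : a = b := by
  by_contra hne
  have hsub : ({1, a, b} : Set G) ⊆ (K : Set G) := by
    intro x hx
    rcases hx with h | h | h <;> rw [h]
    exacts [one_mem K, ha, hb]
  have h3 := Set.ncard_le_ncard hsub (Set.toFinite _)
  rw [Set.ncard_eq_three.2 ⟨1, a, b, ha1.symm, hb1.symm, hne, rfl⟩, ← Nat.card_coe_set_eq] at h3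
  exact absurd (h3.trans hK) (by norm_num)

theorem sign_outer : Equiv.Perm.sign (permOf 1782 outer) = -1 := by
  have h := outer_ok
  simp only [Bool.and_eq_true] at h
  obtain ⟨⟨⟨⟨hp, -⟩, hinv⟩, -⟩, hfix⟩ := h
  exact sign_invol hp hinv (Nat.eq_of_beq_eq_true hfix) (k := 841) (by norm_num) ⟨420, by norm_num⟩

theorem neg_one_ne : (-1 : ℤˣ) ≠ 1 := by decide

theorem sign_grp {σ : Equiv.Perm (Fin 1782)} (h : σ ∈ suzGroup) : Equiv.Perm.sign σ = 1 := by
  have hle : suzGroup ≤ Equiv.Perm.sign.ker := by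
    have hn := gen_lt slp_ok
    have ho := ord_ok
    simp only [ordOK, Bool.and_eq_true] at ho
    rw [suzGroup, grp, Subgroup.closure_le, Set.insert_subset_iff, Set.singleton_subset_iff]
    have key : ∀ τ : Equiv.Perm (Fin 1782), τ ^ (11 ^ 1) = 1 → Equiv.Perm.sign τ = 1 := fun τ hτ => by
      have h1 := congrArg Equiv.Perm.sign hτ
      rw [map_pow, map_one, pow_one] at h1
      rcases Int.units_eq_one_or (Equiv.Perm.sign τ) with h2 | h2
      · exact h2
      · rw [h2, Odd.neg_one_pow (show Odd 11 from ⟨5, rfl⟩)] at h1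
        exact absurd h1 neg_one_ne
    exact ⟨key _ (powOK_spec (node_ok slp_ok (by omega)) ho.1), key _ (powOK_spec (node_ok slp_ok (by omega)) ho.2)⟩
  exact hle h

theorem fix_bot : suzGroup ⊓ fixList 1782 [0, 135, 142, 203, 44, 208, 11] = ⊥ := by
  have h := outer_ok
  simp only [Bool.and_eq_true] at h
  obtain ⟨⟨⟨⟨hp, haut⟩, hinv⟩, hfix⟩, -⟩ := h
  set K := autG 1782 graph ⊓ fixList 1782 [0, 135, 142, 203, 44, 208, 11]
  have hs : permOf 1782 outer ∈ K := ⟨autOK_mem graph_ok hp haut, fun i hi => Fin.ext (by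
    rw [permOf_val hp]; exact Nat.eq_of_beq_eq_true (List.all_eq_true.1 hfix _ hi))⟩
  rw [eq_bot_iff]
  intro σ hσ
  rw [Subgroup.mem_bot]
  by_contra hne
  have hσK : σ ∈ K := ⟨grp_le_autG graph_ok slp_ok gens_aut hσ.1, hσ.2⟩
  have hso : σ ≠ permOf 1782 outer := fun e => by
    have h1 := sign_grp hσ.1
    rw [e, sign_outer] at h1
    exact neg_one_ne h1
  have ho : permOf 1782 outer ≠ 1 := fun e => by
    have h1 := sign_outer
    rw [e, map_one] at h1
    exact neg_one_ne h1.symm
  exact hso (two_elements card_aut_fix_le hσK hs hne ho)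

theorem card_suzGroup : Nat.card ↥suzGroup = 448345497600 := by
  rw [suzGroup, card_grp graph_ok slp_ok gens_aut levels_ok, levels_shape.1, levels_shape.2,
    show grp 1782 nodes ⊓ fixList 1782 [0, 135, 142, 203, 44, 208, 11] = ⊥ from fix_bot, Subgroup.card_bot]
  rfl

theorem levels_cons : ∃ L Ls, levels = L :: Ls ∧ L.k = 1782 := by
  unfold levels; exact ⟨_, _, rfl, rfl⟩

instance pretransitive_suzGroup : MulAction.IsPretransitive ↥suzGroup (Fin 1782) := by
  obtain ⟨L, Ls, e, hk⟩ := levels_cons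
  exact pretransitive slp_ok (e ▸ levels_ok) hk

theorem isSuz_suzGroup : Cfsg.IsSuz ↥suzGroup := by
  haveI : MulAction.IsPretransitive ↥(grp 1782 nodes) (Fin 1782) := pretransitive_suzGroup
  refine ⟨isSimpleGroup_grp slp_ok (by norm_num) cover_ok (q := 11) (e := 1) (by norm_num) (by norm_num) ?_ ord_ok,
    card_suzGroup⟩
  rw [show Nat.card ↥(grp 1782 nodes) = 448345497600 from card_suzGroup]
  norm_num

end Cfsg.Agent.RigidGraph.Suz
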